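import Cfsg.Agent.H0.MultM
import Cfsg.Agent.H0.ML32.D
set_option maxRecDepth 100000
set_option Elab.async false
set_option linter.unusedSectionVars false
namespace H0.QL32
open H0 BN 
noncomputable def n9 : Net := (Net.cons (nat_lit 4) (nat_lit 0x4) (Net.cons (nat_lit 2) (nat_lit 0x2) (Net.cons (nat_lit 1) (nat_lit 0x14) (Net.cons (nat_lit 2) (nat_lit 0x2) (Net.cons (nat_lit 4) (nat_lit 0x4) Net.nil)))))
noncomputable def n10 : Net := (Net.cons (nat_lit 4) (nat_lit 0xc) (Net.cons (nat_lit 2) (nat_lit 0x32) (Net.cons (nat_lit 1) (nat_lit 0x14) (Net.cons (nat_lit 2) (nat_lit 0x2) (Net.cons (nat_lit 4) (nat_lit 0xc) Net.nil)))))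
noncomputable def n11 : Net := (Net.cons (nat_lit 1) (nat_lit 0x14) Net.nil)
noncomputable def nl2 : List Net := [n9, n10, n11]
theorem nl2_ok : allL (Net.ok (nat_lit 8)) nl2 = true := by decide +kernel
noncomputable def nl : List Net := [H0.ML32.n0, H0.ML32.n1, H0.ML32.n2, H0.ML32.n3, H0.ML32.n4, H0.ML32.n5, H0.ML32.n6, H0.ML32.n7, H0.ML32.n8, n9, n10, n11]
theorem nl_ok : allL (Net.ok (nat_lit 8)) nl = true := allL_append H0.ML32.nl_ok nl2_ok
noncomputable def R : Rep := mkRep (nat_lit 3) (nat_lit 8) nl (by decide +kernel) nl_ok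
def defs : List (List ℕ) := [[4, 3, 7, 6], [4, 3], [7]]
def ch2 : List Model.Lev := [(1, [[9]], 2), (2, [[9, 10], [11]], 4)]
noncomputable def tL2 : TC.WTr := (.node (.node (.node (.leaf [0, 0] 0 0 false) (.leaf [2, 1] 0 0 false)) (.leaf [1, 1] 0 0 false)) (.node (.node (.leaf [1, 0] 0 0 false) (.leaf [2, 2] 0 0 false)) (.leaf [2, 0] 0 0 false)))
noncomputable def tR2 : TC.WTr := (.node (.node (.node (.leaf [] 0 0 false) (.leaf [1, 2] 0 0 false)) (.leaf [2] 0 0 false)) (.node (.node (.leaf [0, 1, 2] 0 0 false) (.leaf [] 0 0 false)) (.leaf [0, 2] 0 0 false)))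
noncomputable def C2 : Tail.Cfg := ⟨nat_lit 2, nat_lit 1, nat_lit 3, nat_lit 6, nat_lit 15, tL2.get, tR2.get⟩
noncomputable def tests2 : List (List ℕ × ℕ × Bool × ℕ) := [([2], 3, false, (nat_lit 0x40000001c00000000000)), ([2], 4, false, (nat_lit 0x4000e000000000000000)), ([1], 2, false, (nat_lit 0x1000000200000000)), ([1], 0, false, (nat_lit 0x8000000200000010008))]
noncomputable def rows2 : List (ℕ × List (ℕ × ℕ) × ℕ) := [(0, [(1, 1)], (nat_lit 0x0)), (1, [(2, 1)], (nat_lit 0x0)), (2, [(0, 1)], (nat_lit 0x0)), (3, [(3, 1)], (nat_lit 0x0)), (4, [], (nat_lit 0x40)), (5, [(2, 6), (3, 7)], (nat_lit 0x200))]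
noncomputable def YS2 : List (List (ℕ × ℕ) × ℕ × ℕ) := [([(3, 1)], 2, (nat_lit 0x1))]
def FS2 : List (List (ℕ × ℕ)) := [[(2, 1)], [(0, 1)], [(1, 1)]]
def av2 (x s : ℕ) : ℕ := ([[0, 1, 0], [1, 0, 7], [0, 0, 6]].getD x []).getD s 0
theorem c0 : Model.fixP R [1] [[9, 10], [11]] = true := by decide +kernel
theorem c1 : Model.growP R [[9, 10], [11]] [0, 1] 2 4 = true := by decide +kernel
theorem c2 : Model.fixP R [] [[9]] = true := by decide +kernel
theorem c3 : Model.growP R [[9]] [0] 1 2 = true := by decide +kernel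
theorem c4 : rulesB R [2, 1, 0] (fun i => sh 9 (C2.L i)) (fun i => sh 9 (C2.R i)) 0 6 = true := by decide +kernel
theorem c5 : allL (Tail.chkT C2 (nat_lit 13) (nat_lit 7)) ((tests2.drop 0).take 4) = true := by decide +kernel
theorem c6 : allL (Tail.rowChk C2 (nat_lit 13) (nat_lit 7) (nat_lit 3) (tests2.map fun T => T.2.2.2) (FS2 ++ YS2.map fun Y => Y.1)) ((rows2.drop 0).take 6) = true := by decide +kernel
theorem c7 : Tail.finChk C2 (nat_lit 13) (nat_lit 7) (nat_lit 3) (nat_lit 2) (C2.p ^ 2) av2 (tests2.map fun T => T.2.2.2) FS2 YS2 rows2 = true := by decide +kernel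
theorem c8 : defsChk R defs 9 = true := by decide +kernel
end H0.QL32
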